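import Groth.Agent.H23.SeesawGlobal
import Groth.Agent.H23.EquidimFibres
import Groth.Prelude.Def_ega3
import Mathlib.RingTheory.Jacobson.Ring
import Mathlib.RingTheory.Nakayama
import Mathlib.FieldTheory.IsAlgClosed.Basic

/-!
Constant functions on all fibres of a flat proper family over a scheme of finite type over an algebraically
closed field, from the closed fibres.
-/

set_option autoImplicit false
set_option linter.style.haveILetI false
set_option linter.unusedSectionVars false
set_option backward.isDefEq.respectTransparency false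
set_option backward.isDefEq.respectTransparency.types false

universe u

open CategoryTheory CategoryTheory.Limits AlgebraicGeometry TopologicalSpace

namespace Groth.Agent.FibreConst

open Groth.Agent Groth.Agent.H23

section Forms

variable {k A : Type u} [Field k] [CommRing A] [Algebra k A] {Q : Type u} [AddCommGroup Q] [Module A Q]
  [Module.Finite A Q]

/-- If the forms with values in a point are a line, one element spans the module near the point. -/
theorem exists_span_near (α : A →ₐ[k] k) (g₁ : Q →+ k) (q : Q) (hq : g₁ q ≠ 0)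
    (hvanish : ∀ g : Q →+ k, (∀ (a : A) x, g (a • x) = α a * g x) → g q = 0 → g = 0) :
    ∃ a : A, α a ≠ 0 ∧ ∀ x : Q, a • x ∈ Submodule.span A {q} := by
  classical
  let m : Ideal A := RingHom.ker α.toRingHom
  let N : Submodule A Q := Submodule.span A {q}
  have hle : (⊤ : Submodule A Q) ≤ m • ⊤ ⊔ N := by
    by_contra hne
    let V := Q ⧸ (m • ⊤ ⊔ N : Submodule A Q)
    obtain ⟨x, hx⟩ : ∃ x : Q, x ∉ (m • ⊤ ⊔ N : Submodule A Q) := by
      by_contra h
      push Not at h
      exact hne fun x _ => h x
    letI : Module k Q := Module.compHom Q (algebraMap k A)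
    haveI : IsScalarTower k A Q := IsScalarTower.of_algebraMap_smul fun r x => rfl
    let P : Submodule k Q := (m • ⊤ ⊔ N : Submodule A Q).restrictScalars k
    obtain ⟨f, hfx, hfP⟩ : ∃ f : Q →ₗ[k] k, f x ≠ 0 ∧ P.map f = ⊥ :=
      Submodule.exists_dual_map_eq_bot_of_notMem (show x ∉ P from hx) inferInstance
    have hf0 : ∀ y ∈ P, f y = 0 := fun y hy => (Submodule.mem_bot k).1 (hfP ▸ Submodule.mem_map_of_mem hy)
    have hsmul : ∀ (a : A) (y : Q), f (a • y) = α a * f y := fun a y => by
      have h1 : (a - algebraMap k A (α a)) • y ∈ P :=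
        Submodule.mem_sup_left (Submodule.smul_mem_smul
          (RingHom.mem_ker.2 (by simp [AlgHom.commutes])) Submodule.mem_top)
      have h2 := hf0 _ h1
      rw [sub_smul, map_sub, sub_eq_zero, algebraMap_smul A (α a) y, LinearMap.map_smul f (α a) y, smul_eq_mul] at h2
      exact h2
    have := hvanish f.toAddMonoidHom hsmul (hf0 q (Submodule.mem_sup_right (Submodule.mem_span_singleton_self q)))
    exact hfx (DFunLike.congr_fun this x)
  let π := N.mkQ
  have hV : (⊤ : Submodule A (Q ⧸ N)) ≤ m • ⊤ := fun z _ => by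
    obtain ⟨x, rfl⟩ := N.mkQ_surjective z
    obtain ⟨y, hy, n, hn, rfl⟩ := Submodule.mem_sup.1 (hle (Submodule.mem_top (x := x)))
    rw [map_add, show N.mkQ n = 0 from (Submodule.Quotient.mk_eq_zero N).2 hn, add_zero]
    have : N.mkQ y ∈ (m • ⊤ : Submodule A Q).map N.mkQ := Submodule.mem_map_of_mem hy
    rw [Submodule.map_smul''] at this
    exact Submodule.smul_mono le_rfl le_top this
  obtain ⟨a, ha, ha'⟩ := Submodule.exists_sub_one_mem_and_smul_eq_zero_of_fg_of_le_smul m _
    Module.Finite.fg_top hV
  refine ⟨a, fun h0 => ?_, fun x => (Submodule.Quotient.mk_eq_zero N).1 ?_⟩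
  · have h1 := RingHom.mem_ker.1 ha
    rw [map_sub, map_one] at h1
    exact one_ne_zero (α := k) (by linear_combination h0 - h1)
  · rw [Submodule.Quotient.mk_smul]
    exact ha' _ Submodule.mem_top

end Forms

section Affine

variable {A : Type u} [CommRing A] [IsNoetherianRing A] {X : Scheme.{u}} [X.Over (Spec (CommRingCat.of A))]
  [IsProper (X ↘ Spec (CommRingCat.of A))] [Flat (X ↘ Spec (CommRingCat.of A))]

local notation "π" => (X ↘ Spec (CommRingCat.of A))

/-- The functions on the base changes as forms on one finite module. -/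
theorem exists_rep_unit : ∃ (Q : ModuleCat.{u} A) (_ : Module.Finite A Q),
    ∀ (B : Type u) [Field B] [Algebra A B],
      ∃ e : (Q →ₗ[A] B) ≃+ Γ(pullback π (Seesaw.specAlg A B), ⊤),
        ∀ (b : B) (g : Q →ₗ[A] B), e (LinearMap.mulLeft A b ∘ₗ g) =
          (show Γ(pullback π (Seesaw.specAlg A B), ⊤) from
            Coh.toGlobal (pullback.snd π (Seesaw.specAlg A B)) b) * e g := by
  obtain ⟨Q, hfin, e, hQ⟩ := Seesaw.exists_rep (A := A) (Coh.structureModule X) (PicLoc.isInvertible_structureModule X)
  refine ⟨Q, hfin, fun B _ _ => ?_⟩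
  let p := pullback.fst π (Seesaw.specAlg A B)
  obtain ⟨eB, hB, -⟩ := hQ B _ p (pullback.snd π (Seesaw.specAlg A B)) (IsPullback.of_hasPullback π _)
  obtain ⟨φ⟩ := PicClLib.nonempty_pullback_structureModule p
  have hbij : Function.Bijective (φ.hom.app ⊤) :=
    (ConcreteCategory.isIso_iff_bijective _).1 (Scheme.Modules.Hom.isIso_iff_isIso_app.1 inferInstance ⊤)
  refine ⟨eB.trans (AddEquiv.ofBijective (φ.hom.app ⊤).hom hbij), fun b g => ?_⟩
  show φ.hom.app ⊤ (eB (LinearMap.mulLeft A b ∘ₗ g)) = _
  rw [hB b g, Scheme.Modules.Hom.app_smul]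
  rfl

/-- Constant functions on a fibre over a rational point give them at the points specialising to it. -/
theorem bijective_of_point {k : Type u} [Field k] [Algebra k A] (α : A →ₐ[k] k)
    (B : Type u) [Field B] [Algebra A B] [Nonempty ↥(pullback π (Seesaw.specAlg A B))]
    (hle : ∀ a : A, algebraMap A B a = 0 → α a = 0)
    (h : Function.Bijective (Coh.toGlobal (pullback.snd π (Spec.map (CommRingCat.ofHom α.toRingHom))))) :
    Function.Bijective (Coh.toGlobal (pullback.snd π (Seesaw.specAlg A B))) := by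
  obtain ⟨Q, hfin, hQ⟩ := exists_rep_unit (A := A) (X := X)
  obtain ⟨q, a, ha, hspan⟩ : ∃ (q : Q) (a : A), α a ≠ 0 ∧ ∀ x : Q, a • x ∈ Submodule.span A {q} := by
    letI : Algebra A k := α.toRingHom.toAlgebra
    obtain ⟨e, he⟩ := hQ k
    haveI : Nontrivial Γ(pullback π (Seesaw.specAlg A k), ⊤) := Function.Injective.nontrivial h.1
    have hg₁ : e.symm 1 ≠ 0 := fun h0 => one_ne_zero (by rw [← e.apply_symm_apply 1, h0, map_zero])
    obtain ⟨q, hq⟩ : ∃ q, e.symm 1 q ≠ 0 := by
      by_contra H
      push Not at H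
      exact hg₁ (LinearMap.ext H)
    refine ⟨q, exists_span_near α (e.symm 1).toAddMonoidHom q hq fun g hg hgq => ?_⟩
    let g' : Q →ₗ[A] k := { g with map_smul' := fun a x => hg a x }
    obtain ⟨c, hc⟩ := h.2 (e g')
    have hgc : g' = LinearMap.mulLeft A c ∘ₗ e.symm 1 :=
      e.injective (by rw [he, e.apply_symm_apply, mul_one]; exact hc.symm)
    have h1 : c * e.symm 1 q = 0 := by
      have := DFunLike.congr_fun hgc q
      exact this.symm.trans hgq
    have hc0 := (mul_eq_zero.1 h1).resolve_right hq
    refine AddMonoidHom.ext fun x => ?_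
    show g' x = 0
    rw [hgc, hc0]
    exact zero_mul _
  have haB : algebraMap A B a ≠ 0 := fun h0 => ha (hle a h0)
  have hvanish : ∀ g : Q →ₗ[A] B, g q = 0 → g = 0 := fun g hg => LinearMap.ext fun x => by
    obtain ⟨c, hc⟩ := Submodule.mem_span_singleton.1 (hspan x)
    have h1 : algebraMap A B a * g x = 0 := by
      rw [← Algebra.smul_def, ← map_smul, ← hc, map_smul, hg, smul_zero]
    exact (mul_eq_zero.1 h1).resolve_left haB
  obtain ⟨e, he⟩ := hQ B
  haveI : Nonempty (⊤ : (pullback π (Seesaw.specAlg A B)).Opens) := ⟨⟨Classical.arbitrary _, trivial⟩⟩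
  haveI : Nontrivial (Coh.Γtop (pullback π (Seesaw.specAlg A B))) :=
    inferInstanceAs (Nontrivial Γ(pullback π (Seesaw.specAlg A B), ⊤))
  refine ⟨RingHom.injective _, fun z => ?_⟩
  have hq : e.symm 1 q ≠ 0 := fun h0 => one_ne_zero (by rw [← e.apply_symm_apply 1, hvanish _ h0, map_zero])
  refine ⟨e.symm z q / e.symm 1 q, ?_⟩
  have h1 : e.symm z - LinearMap.mulLeft A (e.symm z q / e.symm 1 q) ∘ₗ e.symm 1 = 0 := hvanish _ (by
    show e.symm z q - e.symm z q / e.symm 1 q * e.symm 1 q = 0
    rw [div_mul_cancel₀ _ hq, sub_self])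
  rw [sub_eq_zero] at h1
  have h2 := congrArg e h1
  rw [e.apply_symm_apply, he, e.apply_symm_apply, mul_one] at h2
  exact h2.symm

end Affine

section Global

variable {k : Type u} [Field k] [IsAlgClosed k] {X Y : Scheme.{u}} (gY : Y ⟶ Spec (CommRingCat.of k))
  [LocallyOfFiniteType gY] (f : X ⟶ Y) [IsProper f] [Flat f]

/-- The fibre over a rational point with integral fibre has constant functions. -/
theorem bijective_point (hint : ∀ y : Y, IsIntegral (f.fiber y)) (σ : Spec (CommRingCat.of k) ⟶ Y) (hσ : σ ≫ gY = 𝟙 _) :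
    Function.Bijective (pullback.snd f σ).appTop := by
  let y := σ (IsLocalRing.closedPoint k)
  let φ := Scheme.descResidueField (Scheme.stalkClosedPointTo σ)
  let a := Y.fromSpecResidueField y
  have hfac : Spec.map φ ≫ a = σ := Scheme.descResidueField_stalkClosedPointTo_fromSpecResidueField k Y σ
  haveI : IsIso φ := by
    obtain ⟨ψ, hψ⟩ := Spec.map_surjective (a ≫ gY)
    have h1 : ψ ≫ φ = 𝟙 _ := Spec.map_injective (by rw [Spec.map_comp, hψ, ← Category.assoc, hfac, hσ, Spec.map_id])
    refine (ConcreteCategory.isIso_iff_bijective _).2 ⟨φ.hom.injective, fun x => ⟨ψ x, ?_⟩⟩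
    exact ConcreteCategory.congr_hom h1 x
  let e : pullback f σ ≅ pullback (pullback.snd f a) (Spec.map φ) :=
    pullback.congrHom rfl hfac.symm ≪≫ (pullbackLeftPullbackSndIso f a (Spec.map φ)).symm
  haveI := hint y
  haveI : IsIntegral (pullback f a) := hint y
  haveI : Nonempty ↥(pullback (pullback.snd f a) (Spec.map φ)) :=
    ⟨(asIso (pullback.fst (pullback.snd f a) (Spec.map φ))).inv (Classical.arbitrary _)⟩
  haveI : IsIntegral (pullback (pullback.snd f a) (Spec.map φ)) :=
    isIntegral_of_isOpenImmersion (pullback.fst (pullback.snd f a) (Spec.map φ))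
  haveI : Nonempty ↥(pullback f σ) := ⟨e.inv (Classical.arbitrary _)⟩
  haveI : IsIntegral (pullback f σ) := isIntegral_of_isOpenImmersion e.hom
  haveI : IsIntegral (Over.mk (pullback.snd f σ)).left := ‹IsIntegral (pullback f σ)›
  haveI : GeometricallyIntegral (pullback.snd f σ) :=
    EquidimFibres.geometricallyIntegral_of_isAlgClosed (V := Over.mk (pullback.snd f σ))
  exact Rigid.bijective_appTop (pullback.snd f σ)

include gY in
/-- All fibres have constant functions when they are integral. -/
theorem bijective_fibre (hint : ∀ y : Y, IsIntegral (f.fiber y)) (y : Y) :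
    Function.Bijective (f.fiberToSpecResidueField y).appTop := by
  obtain ⟨_, ⟨U, hU, rfl⟩, hyU, -⟩ :=
    Y.isBasis_affineOpens.exists_subset_of_mem_open (Set.mem_univ y) isOpen_univ
  have hU' : IsAffineOpen U := hU
  let A := Γ(Y, U)
  let g : Spec A ⟶ Y := hU'.fromSpec
  obtain ⟨ψ, hψ⟩ := Spec.map_surjective (g ≫ gY)
  letI : Algebra k A := ψ.hom.toAlgebra
  haveI : Algebra.FiniteType k A := by
    have h : LocallyOfFiniteType (Spec.map ψ) := by rw [hψ]; infer_instance
    exact (HasRingHomProperty.Spec_iff (P := @LocallyOfFiniteType)).1 h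
  haveI : IsNoetherianRing A := Algebra.FiniteType.isNoetherianRing k A
  let a := Y.fromSpecResidueField y
  have hr : Set.range a ⊆ Set.range g := by
    rw [Scheme.range_fromSpecResidueField, hU'.range_fromSpec]
    exact Set.singleton_subset_iff.2 hyU
  obtain ⟨β, hβ⟩ := Spec.map_surjective (IsOpenImmersion.lift g a hr)
  letI : Algebra A (Y.residueField y) := β.hom.toAlgebra
  haveI : (RingHom.ker β.hom).IsPrime := RingHom.ker_isPrime _
  obtain ⟨m, hm, hpm⟩ := Ideal.exists_le_maximal (RingHom.ker β.hom) (Ideal.IsPrime.ne_top inferInstance)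
  letI : Field (A ⧸ m) := Ideal.Quotient.field m
  haveI : Algebra.IsIntegral k (A ⧸ m) := by
    haveI : Module.Finite k (A ⧸ m) := finite_of_finite_type_of_isJacobsonRing k (A ⧸ m)
    exact Algebra.IsIntegral.of_finite k _
  let ι : k ≃ₐ[k] (A ⧸ m) := AlgEquiv.ofBijective (Algebra.ofId k (A ⧸ m))
    (IsAlgClosed.algebraMap_bijective_of_isIntegral (k := k) (K := A ⧸ m))
  let α : A →ₐ[k] k := ι.symm.toAlgHom.comp (Ideal.Quotient.mkₐ k m)
  letI : (pullback f g).Over (Spec A) := ⟨pullback.snd f g⟩
  let σA := Spec.map (CommRingCat.ofHom α.toRingHom)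
  have hσ : (σA ≫ g) ≫ gY = 𝟙 _ := by
    rw [Category.assoc, ← hψ, ← Spec.map_comp,
      show ψ ≫ CommRingCat.ofHom α.toRingHom = 𝟙 _ from CommRingCat.hom_ext (RingHom.ext fun r => α.commutes r),
      Spec.map_id]
  have h1 := bijective_point gY f hint (σA ≫ g) hσ
  haveI : IsProper (pullback f g ↘ Spec A) := inferInstanceAs (IsProper (pullback.snd f g))
  haveI : Flat (pullback f g ↘ Spec A) := inferInstanceAs (Flat (pullback.snd f g))
  have hfac : Seesaw.specAlg A (Y.residueField y) ≫ g = a := by
    show Spec.map β ≫ g = a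
    rw [hβ]
    exact IsOpenImmersion.lift_fac g a hr
  let e : pullback (pullback.snd f g) (Seesaw.specAlg A (Y.residueField y)) ≅ pullback f a :=
    pullbackLeftPullbackSndIso f g _ ≪≫ pullback.congrHom rfl hfac
  have he : e.hom ≫ pullback.snd f a = pullback.snd (pullback.snd f g) (Seesaw.specAlg A (Y.residueField y)) := by
    simp [e]
  haveI : IsIntegral (pullback f a) := hint y
  haveI : Nonempty ↥(pullback (pullback f g ↘ Spec A) (Seesaw.specAlg A (Y.residueField y))) :=
    ⟨e.inv (Classical.arbitrary _)⟩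
  have h2 := bijective_of_point (A := A) (X := pullback f g) α (Y.residueField y)
    (fun r hr' => by
      show ι.symm (Ideal.Quotient.mk m r) = 0
      rw [Ideal.Quotient.eq_zero_iff_mem.2 (hpm (RingHom.mem_ker.2 hr')), map_zero]) ?_
  · show Function.Bijective (pullback.snd f a).appTop
    have h3 : Function.Bijective (pullback.snd (pullback.snd f g) (Seesaw.specAlg A (Y.residueField y))).appTop :=
      (Function.Bijective.of_comp_iff _
        (ConcreteCategory.bijective_of_isIso (Scheme.ΓSpecIso (Y.residueField y)).inv)).1 h2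
    rw [← he, Scheme.Hom.comp_appTop] at h3
    exact (Function.Bijective.of_comp_iff' (SeesawGlobal.bijective_appTop_iso e) _).1 h3
  · have he' : pullback.snd (pullback.snd f g) σA =
        (pullbackLeftPullbackSndIso f g σA).hom ≫ pullback.snd f (σA ≫ g) :=
      (pullbackLeftPullbackSndIso_hom_snd f g σA).symm
    have h4 : Function.Bijective (pullback.snd (pullback.snd f g) σA).appTop := by
      rw [he', Scheme.Hom.comp_appTop]
      exact (SeesawGlobal.bijective_appTop_iso (pullbackLeftPullbackSndIso f g σA)).comp h1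
    exact h4.comp (ConcreteCategory.bijective_of_isIso (Scheme.ΓSpecIso (CommRingCat.of k)).inv)

end Global

end Groth.Agent.FibreConst
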