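import Groth.Agent.FibreConst.Basic
import Groth.Agent.S16759
import Groth.Agent.PnCoh.Chow.Proper
import Groth.Agent.H23.PicMul
import Groth.Prelude.Def_CohB1

/-!
Descent of modules trivial on integral fibres.
-/

set_option autoImplicit false
set_option linter.style.haveILetI false
set_option linter.unusedSectionVars false
set_option backward.isDefEq.respectTransparency false
set_option backward.isDefEq.respectTransparency.types false

universe u

open CategoryTheory CategoryTheory.Limits AlgebraicGeometry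
open scoped Groth.Agent.H23.PicMul

namespace Groth.Agent.FibreConst

open Groth.Agent

theorem isProper_projective {X Y : Scheme.{u}} (n : ℕ) (i : X ⟶ CohB1.ProjSpaceOver n Y) [IsClosedImmersion i] :
    IsProper (i ≫ CohB1.ProjSpaceOver.toBase n Y) := by
  haveI : IsProper (CohB1.ProjSpaceOver.toBase n Y) := by
    haveI : IsProper (CohB1.ProjSpace.toSpec n (ULift.{u} ℤ)) := PnCoh.Chow.isProper_toSpec _ _
    exact MorphismProperty.pullback_snd _ _ inferInstance
  exact MorphismProperty.comp_mem @IsProper _ _ inferInstance inferInstance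

variable {k : Type u} [Field k] [IsAlgClosed k] {X Y : Scheme.{u}} (gY : Y ⟶ Spec (CommRingCat.of k))
  [LocallyOfFiniteType gY] (f : X ⟶ Y) [IsProper f] [Flat f]

include gY in
theorem finrank_fibre (hint : ∀ y : Y, IsIntegral (f.fiber y)) (y : Y) :
    Module.finrank (Y.residueField y) Γ(f.fiber y, ⊤) = 1 := by
  have h := (bijective_fibre gY f hint y).comp
    (ConcreteCategory.bijective_of_isIso (Scheme.ΓSpecIso (Y.residueField y)).inv)
  have hb : Function.Bijective (Algebra.linearMap (Y.residueField y) Γ(f.fiber y, ⊤)) := h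
  rw [← (LinearEquiv.ofBijective _ hb).finrank_eq, Module.finrank_self]

include gY in
theorem descend [IsReduced Y] (hint : ∀ y : Y, IsIntegral (f.fiber y)) (E : X.Modules) (hE : PicF.IsInvertible E)
    (htriv : ∀ y : Y, Nonempty ((Scheme.Modules.pullback (f.fiberι y)).obj E ≅ Coh.structureModule (f.fiber y))) :
    PicF.IsInvertible ((Scheme.Modules.pushforward f).obj E) ∧
      IsIso ((Scheme.Modules.pullbackPushforwardAdjunction f).counit.app E) := by
  haveI : IsLocallyNoetherian Y := LocallyOfFiniteType.isLocallyNoetherian gY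
  exact (S16759.result f (finrank_fibre gY f hint) E hE).2 htriv

include gY in
theorem exists_iso_tensor [IsReduced Y] (hint : ∀ y : Y, IsIntegral (f.fiber y)) (L M : X.Modules)
    (hL : PicF.IsInvertible L) (hM : PicF.IsInvertible M)
    (hLM : ∀ y : Y, Nonempty ((Scheme.Modules.pullback (f.fiberι y)).obj L ≅ (Scheme.Modules.pullback (f.fiberι y)).obj M)) :
    ∃ E : Y.Modules, PicF.IsInvertible E ∧
      Nonempty (L ≅ CohB1.tensorMod M ((Scheme.Modules.pullback f).obj E)) := by
  obtain ⟨D, hD, ⟨φ⟩⟩ := H23.PicInv.exists_inverse hM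
  have htriv : ∀ y : Y, Nonempty ((Scheme.Modules.pullback (f.fiberι y)).obj (CohB1.tensorMod L D) ≅
      Coh.structureModule (f.fiber y)) := fun y => by
    obtain ⟨ψ⟩ := hLM y
    exact ⟨(H23.PicMul.pull _ L D).some ≪≫ PicGrp.tensorModIso ψ (Iso.refl _) ≪≫
      (H23.PicMul.pull _ M D).some.symm ≪≫ (Scheme.Modules.pullback _).mapIso φ ≪≫
      (PicClLib.nonempty_pullback_structureModule _).some⟩
  obtain ⟨h1, h2⟩ := descend gY f hint _ (H23.PicMul.isInvertible_tensor hL hD) htriv
  refine ⟨_, h1, ?_⟩
  haveI := h2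
  have he := H23.PicMul.cl_eq_iff.2 ⟨asIso ((Scheme.Modules.pullbackPushforwardAdjunction f).counit.app (CohB1.tensorMod L D))⟩
  refine H23.PicMul.cl_eq_iff.1 ?_
  rw [H23.PicMul.cl_tensor]
  refine Eq.trans ?_ (congrArg (PicF.cl M * ·) he).symm
  show PicF.cl L = PicF.cl M * PicF.cl (CohB1.tensorMod L D)
  rw [H23.PicMul.cl_tensor, mul_left_comm, ← H23.PicMul.cl_tensor M D, H23.PicMul.cl_eq_iff.2 ⟨φ⟩,
    ← H23.PicMul.one_def, mul_one]

end Groth.Agent.FibreConst
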